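import Mathlib

/-!
# Wedging with a fixed form, and the trace of a `p`-th root extension
-/

universe u
open TensorProduct Polynomial

noncomputable section
namespace ExtTraceLib

variable (S R : Type u) {Ω : Type u} [CommRing R] [CommRing S] [Algebra R S] [AddCommGroup Ω]
  [Module R Ω] (α : Ω)

/-- The algebra of forms with coefficients in `S`. -/
abbrev E (S R Ω : Type u) [CommRing R] [CommRing S] [Algebra R S] [AddCommGroup Ω] [Module R Ω] :
    Type u := S ⊗[R] ExteriorAlgebra R Ω

/-- `e = 1 ⊗ α`. -/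
def e : E S R Ω := (1 : S) ⊗ₜ ExteriorAlgebra.ι R α

/-- The multiples `x * e`. -/
abbrev P : Submodule S (E S R Ω) := LinearMap.range (LinearMap.mulRight S (e S R α))

theorem ι_mul_mul_ι (x : ExteriorAlgebra R Ω) :
    ExteriorAlgebra.ι R α * x * ExteriorAlgebra.ι R α = 0 := by
  induction x using CliffordAlgebra.left_induction with
  | algebraMap r =>
    rw [← Algebra.commutes, mul_assoc, ExteriorAlgebra.ι_sq_zero, mul_zero]
  | add x y hx hy => rw [mul_add, add_mul, hx, hy, add_zero]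
  | ι_mul x m hx =>
    rw [show CliffordAlgebra.ι (0 : QuadraticForm R Ω) = ExteriorAlgebra.ι R from rfl, ← mul_assoc,
      eq_neg_of_add_eq_zero_left (ExteriorAlgebra.ι_add_mul_swap α m), neg_mul, neg_mul,
      mul_assoc (ExteriorAlgebra.ι R m), mul_assoc (ExteriorAlgebra.ι R m), hx, mul_zero, neg_zero]

theorem e_mul_of_mem {z : E S R Ω} (hz : z ∈ P S R α) : e S R α * z = 0 := by
  obtain ⟨x, rfl⟩ := hz
  rw [LinearMap.mulRight_apply, ← mul_assoc]
  induction x using TensorProduct.induction_on with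
  | zero => simp
  | add x y hx hy => rw [mul_add, add_mul, hx, hy, add_zero]
  | tmul s x =>
    rw [e, Algebra.TensorProduct.tmul_mul_tmul, Algebra.TensorProduct.tmul_mul_tmul,
      ι_mul_mul_ι R, tmul_zero]

/-- The forms of degree one. -/
def ι' : S ⊗[R] Ω →ₗ[S] E S R Ω := (ExteriorAlgebra.ι R).baseChange S

theorem ι'_swap (z w : S ⊗[R] Ω) : ι' S R z * ι' S R w + ι' S R w * ι' S R z = 0 := by
  induction z using TensorProduct.induction_on with
  | zero => simp
  | add z₁ z₂ h₁ h₂ => rw [map_add, add_mul, mul_add, add_add_add_comm, h₁, h₂, add_zero]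
  | tmul s m =>
    induction w using TensorProduct.induction_on with
    | zero => simp
    | add w₁ w₂ h₁ h₂ => rw [map_add, add_mul, mul_add, add_add_add_comm, h₁, h₂, add_zero]
    | tmul t n =>
      simp only [ι', LinearMap.baseChange_tmul, Algebra.TensorProduct.tmul_mul_tmul, mul_comm t s,
        ← tmul_add, ExteriorAlgebra.ι_add_mul_swap, tmul_zero]

theorem ι'_sq (z : S ⊗[R] Ω) : ι' S R z * ι' S R z = 0 := by
  induction z using TensorProduct.induction_on with
  | zero => simp
  | add z w hz hw =>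
    rw [map_add, add_mul, mul_add, mul_add, hz, hw, zero_add, add_zero, ι'_swap S R]
  | tmul s m =>
    simp only [ι', LinearMap.baseChange_tmul, Algebra.TensorProduct.tmul_mul_tmul,
      ExteriorAlgebra.ι_sq_zero, tmul_zero]

/-- Left multiplication by a form of degree one on `P`. -/
def L : S ⊗[R] Ω →ₗ[S] Module.End S (P S R α) where
  toFun z :=
    { toFun := fun w => ⟨ι' S R z * w.1, by
        obtain ⟨x, hx⟩ := w.2
        exact ⟨ι' S R z * x, by rw [LinearMap.mulRight_apply, mul_assoc, ← hx, LinearMap.mulRight_apply]⟩⟩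
      map_add' := fun a b => Subtype.ext (mul_add _ _ _)
      map_smul' := fun c a => Subtype.ext (mul_smul_comm c _ _) }
  map_add' a b := LinearMap.ext fun w => Subtype.ext <| by
    change ι' S R (a + b) * w.1 = ι' S R a * w.1 + ι' S R b * w.1
    rw [map_add, add_mul]
  map_smul' c a := LinearMap.ext fun w => Subtype.ext <| by
    change ι' S R (c • a) * w.1 = c • (ι' S R a * w.1)
    rw [map_smul, smul_mul_assoc]

/-- `Ω ⧸ α`, over `S`. -/
abbrev Q : Type u := (S ⊗[R] Ω) ⧸ Submodule.span S {(1 : S) ⊗ₜ[R] α}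

/-- Left multiplication descends. -/
def Lq : Q S R α →ₗ[S] Module.End S (P S R α) := by
  refine Submodule.liftQ (M₂ := Module.End S (P S R α)) (Submodule.span S {(1 : S) ⊗ₜ[R] α}) (L S R α) ?_
  ·
    rw [Submodule.span_le, Set.singleton_subset_iff, SetLike.mem_coe, LinearMap.mem_ker]
    refine LinearMap.ext fun (w : P S R α) => Subtype.ext ?_
    change ι' S R ((1 : S) ⊗ₜ[R] α) * w.1 = 0
    exact e_mul_of_mem S R α w.2

theorem Lq_sq (q : Q S R α) : Lq S R α q * Lq S R α q = 0 := by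
  obtain ⟨z, rfl⟩ := Submodule.Quotient.mk_surjective _ q
  refine LinearMap.ext fun w => Subtype.ext ?_
  change ι' S R z * (ι' S R z * w.1) = 0
  rw [← mul_assoc, ι'_sq, zero_mul]

/-- Products of forms, wedged with `α`. -/
def wedge (t : ℕ) : (Q S R α) [⋀^Fin t]→ₗ[S] E S R Ω :=
  ((P S R α).subtype ∘ₗ LinearMap.applyₗ (⟨e S R α, 1, by simp⟩ : P S R α) ∘ₗ
    (ExteriorAlgebra.lift S ⟨Lq S R α, Lq_sq S R α⟩).toLinearMap).compAlternatingMap
    (ExteriorAlgebra.ιMulti S t)

theorem wedge_mk : ∀ (t : ℕ) (η : Fin t → Ω),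
    wedge S R α t (fun j => Submodule.Quotient.mk ((1 : S) ⊗ₜ[R] η j)) =
      (1 : S) ⊗ₜ[R] ExteriorAlgebra.ιMulti R (t + 1) (Fin.snoc η α)
  | 0, η => by
    simp [wedge, e, ExteriorAlgebra.ιMulti_apply, Fin.snoc]
  | t + 1, η => by
    have h := wedge_mk t (Fin.tail η)
    have h1 : (Fin.snoc η α : Fin (t + 2) → Ω) = Fin.cons (η 0) (Fin.snoc (Fin.tail η) α) := by
      rw [Fin.cons_snoc_eq_snoc_cons, Fin.cons_self_tail]
    rw [h1, ExteriorAlgebra.ιMulti_succ_apply]
    simp only [wedge, LinearMap.compAlternatingMap_apply, LinearMap.comp_apply,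
      AlgHom.toLinearMap_apply, LinearMap.applyₗ_apply_apply, Submodule.coe_subtype] at h ⊢
    rw [ExteriorAlgebra.ιMulti_succ_apply, map_mul, ExteriorAlgebra.lift_ι_apply, Module.End.mul_apply]
    change ι' S R ((1 : S) ⊗ₜ[R] η 0) * _ = _
    rw [show (Matrix.vecTail fun j => (Submodule.Quotient.mk ((1 : S) ⊗ₜ[R] η j) : Q S R α)) =
      fun j => Submodule.Quotient.mk ((1 : S) ⊗ₜ[R] Fin.tail η j) from rfl, h]
    simp [ι', Fin.cons_zero, Fin.cons_succ, Matrix.vecTail, Function.comp_def]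

/-- `Σ ± δ vᵢ • (π v̂ᵢ ∧ α)`, normalised at the last slot. -/
def contract {W : Type u} [AddCommGroup W] [Module S W] (δ : W →ₗ[S] S) (π : W →ₗ[S] Q S R α)
    (t : ℕ) : W [⋀^Fin (t + 1)]→ₗ[S] E S R Ω :=
  ((-1 : ℤ) ^ t) • AlternatingMap.alternatizeUncurryFin
    (δ.smulRight ((wedge S R α t).compLinearMap π))

theorem contract_zero {W : Type u} [AddCommGroup W] [Module S W] (δ : W →ₗ[S] S)
    (π : W →ₗ[S] Q S R α) (t : ℕ) (v : Fin (t + 1) → W) (hv : ∀ i, δ (v i) = 0) :
    contract S R α δ π t v = 0 := by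
  simp [contract, AlternatingMap.alternatizeUncurryFin_apply, hv]

theorem contract_snoc {W : Type u} [AddCommGroup W] [Module S W] (δ : W →ₗ[S] S)
    (π : W →ₗ[S] Q S R α) (t : ℕ) (v : Fin t → W) (w : W) (hv : ∀ i, δ (v i) = 0) :
    contract S R α δ π t (Fin.snoc v w) = δ w • wedge S R α t (fun i => π (v i)) := by
  simp only [contract, AlternatingMap.smul_apply, AlternatingMap.alternatizeUncurryFin_apply]
  rw [Fintype.sum_eq_single (Fin.last t) (fun i hi => by
    obtain ⟨j, rfl⟩ := Fin.exists_castSucc_eq.mpr hi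
    simp [hv])]
  simp only [Fin.snoc_last, LinearMap.smulRight_apply, AlternatingMap.smul_apply,
    AlternatingMap.compLinearMap_apply, Fin.val_last, Fin.removeNth_last, Fin.init_snoc]
  rw [smul_smul, ← mul_pow, neg_one_mul, neg_neg, one_pow, one_smul]

end ExtTraceLib
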