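import Groth.Agent.ExtTraceLib.Basic

/-!
# The trace `Ω^{t+1}_{S/Λ} → Ω^{t+1}_{R/Λ}` for `S = R[x]/(xᵖ - a)`
-/

universe u
open TensorProduct Polynomial

noncomputable section
namespace ExtTraceLib

variable (p : ℕ) (Λ R : Type u) [CommRing Λ] [CommRing R] [Algebra Λ R] (a : R)

/-- `R[x]/(xᵖ - a)`. -/
abbrev S' : Type u := AdjoinRoot (X ^ p - C a : R[X])

/-- The model of `Ω_{S/Λ}`. -/
abbrev M' : Type u := Q (S' p R a) R (KaehlerDifferential.D Λ R a) × S' p R a

/-- `1 ⊗ dr`. -/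
def dd (r : R) : Q (S' p R a) R (KaehlerDifferential.D Λ R a) :=
  Submodule.Quotient.mk ((1 : S' p R a) ⊗ₜ[R] KaehlerDifferential.D Λ R r)

theorem dd_self : dd p Λ R a a = 0 :=
  (Submodule.Quotient.mk_eq_zero _).mpr (Submodule.mem_span_singleton_self _)

theorem dd_mul (r s : R) : dd p Λ R a (r * s) =
    algebraMap R (S' p R a) r • dd p Λ R a s + algebraMap R (S' p R a) s • dd p Λ R a r := by
  rw [dd, Derivation.leibniz, tmul_add, tmul_smul, tmul_smul, Submodule.Quotient.mk_add,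
    ← algebraMap_smul (S' p R a) r, ← algebraMap_smul (S' p R a) s,
    Submodule.Quotient.mk_smul, Submodule.Quotient.mk_smul]
  rfl

/-- The universal first order deformation, on `R`. -/
def ψ : R →+* TrivSqZeroExt (S' p R a) (M' p Λ R a) where
  toFun r := TrivSqZeroExt.inl (algebraMap R _ r) + TrivSqZeroExt.inr (dd p Λ R a r, 0)
  map_one' := by
    ext <;> simp [dd]
  map_zero' := by
    ext <;> simp [dd]
  map_add' r s := by
    ext <;> simp [dd, tmul_add]
  map_mul' r s := by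
    refine TrivSqZeroExt.ext ?_ ?_
    · simp only [TrivSqZeroExt.fst_add, TrivSqZeroExt.fst_inl, TrivSqZeroExt.fst_inr, add_zero,
        TrivSqZeroExt.fst_mul, map_mul]
    · simp only [TrivSqZeroExt.snd_add, TrivSqZeroExt.snd_inl, TrivSqZeroExt.snd_inr, zero_add,
        TrivSqZeroExt.fst_add, TrivSqZeroExt.fst_inl, TrivSqZeroExt.fst_inr, add_zero,
        TrivSqZeroExt.snd_mul, op_smul_eq_smul, dd_mul]
      refine Prod.ext rfl ?_
      simp only [Prod.snd_add, Prod.smul_snd, smul_zero, add_zero]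

/-- The image of the root. -/
def rt : TrivSqZeroExt (S' p R a) (M' p Λ R a) :=
  TrivSqZeroExt.inl (AdjoinRoot.root _) + TrivSqZeroExt.inr (0, 1)

variable [CharP R p]

theorem eval₂_rt : (X ^ p - C a : R[X]).eval₂ (ψ p Λ R a) (rt p Λ R a) = 0 := by
  have hp : (p : S' p R a) = 0 := by
    rw [← map_natCast (algebraMap R (S' p R a)), CharP.cast_eq_zero R p, map_zero]
  rw [eval₂_sub, eval₂_X_pow, eval₂_C]
  refine TrivSqZeroExt.ext ?_ ?_
  · have h : AdjoinRoot.mk (X ^ p - C a : R[X]) (X ^ p - C a) = 0 := AdjoinRoot.mk_self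
    rw [map_sub, map_pow, AdjoinRoot.mk_X, AdjoinRoot.mk_C] at h
    simpa [ψ, rt] using h
  · simp [ψ, rt, TrivSqZeroExt.snd_pow, dd_self, ← Nat.cast_smul_eq_nsmul (S' p R a), hp]

/-- The universal first order deformation. -/
def Φ : S' p R a →+* TrivSqZeroExt (S' p R a) (M' p Λ R a) :=
  AdjoinRoot.lift (ψ p Λ R a) (rt p Λ R a) (eval₂_rt p Λ R a)

theorem fst_Φ (s : S' p R a) : (Φ p Λ R a s).fst = s := by
  have h : (TrivSqZeroExt.fstHom (S' p R a) (S' p R a) (M' p Λ R a)).toRingHom.comp (Φ p Λ R a) =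
      RingHom.id _ := by
    refine Ideal.Quotient.ringHom_ext (Polynomial.ringHom_ext (fun r => ?_) ?_)
    · change (Φ p Λ R a (AdjoinRoot.of _ r)).fst = AdjoinRoot.of _ r
      rw [Φ, AdjoinRoot.lift_of]
      simp [ψ]
    · change (Φ p Λ R a (AdjoinRoot.root _)).fst = AdjoinRoot.root _
      rw [Φ, AdjoinRoot.lift_root]
      simp [rt]
  exact RingHom.congr_fun h s

/-- The universal derivation of the model. -/
def Dm : Derivation Λ (S' p R a) (M' p Λ R a) :=
  Derivation.mk'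
    { toFun := fun s => (Φ p Λ R a s).snd
      map_add' := fun s t => by rw [map_add, TrivSqZeroExt.snd_add]
      map_smul' := fun c s => by
        have hc : (Φ p Λ R a (algebraMap Λ (S' p R a) c)).snd = 0 := by
          rw [IsScalarTower.algebraMap_apply Λ R (S' p R a), AdjoinRoot.algebraMap_eq, Φ,
            AdjoinRoot.lift_of]
          simp [ψ, dd]
        rw [Algebra.smul_def, map_mul, TrivSqZeroExt.snd_mul, hc, smul_zero, add_zero, fst_Φ,
          RingHom.id_apply, algebraMap_smul] }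
    (fun s t => by
      change (Φ p Λ R a (s * t)).snd = s • (Φ p Λ R a t).snd + t • (Φ p Λ R a s).snd
      rw [map_mul, TrivSqZeroExt.snd_mul, fst_Φ, fst_Φ, op_smul_eq_smul])

/-- The comparison with the model. -/
def G : Ω[S' p R a⁄Λ] →ₗ[S' p R a] M' p Λ R a := (Dm p Λ R a).liftKaehlerDifferential

theorem G_root : G p Λ R a (KaehlerDifferential.D Λ _ (AdjoinRoot.root _)) = (0, 1) := by
  rw [G, Derivation.liftKaehlerDifferential_comp_D]
  change (Φ p Λ R a (AdjoinRoot.root _)).snd = _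
  rw [Φ, AdjoinRoot.lift_root]
  simp [rt]

theorem G_map (η : Ω[R⁄Λ]) :
    G p Λ R a (KaehlerDifferential.map Λ Λ R (S' p R a) η) =
      (Submodule.Quotient.mk ((1 : S' p R a) ⊗ₜ[R] η), 0) := by
  have hη : η ∈ Submodule.span R (Set.range (KaehlerDifferential.D Λ R)) := by
    rw [KaehlerDifferential.span_range_derivation]; trivial
  induction hη using Submodule.span_induction with
  | zero => simp only [map_zero, tmul_zero, Submodule.Quotient.mk_zero, Prod.mk_zero_zero]
  | add x y _ _ hx hy =>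
    simp only [map_add, hx, hy, tmul_add, Submodule.Quotient.mk_add, Prod.mk_add_mk, add_zero]
  | smul r x _ hx =>
    rw [map_smul, ← algebraMap_smul (S' p R a) r, map_smul, hx, tmul_smul,
      ← algebraMap_smul (S' p R a) r ((1 : S' p R a) ⊗ₜ[R] x), Submodule.Quotient.mk_smul]
    simp
  | mem x hx =>
    obtain ⟨r, rfl⟩ := hx
    rw [KaehlerDifferential.map_D, AdjoinRoot.algebraMap_eq, G, Derivation.liftKaehlerDifferential_comp_D]
    change (Φ p Λ R a (AdjoinRoot.of _ r)).snd = _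
    rw [Φ, AdjoinRoot.lift_of]
    simp [ψ, dd]

/-- The `S`-linear part of the trace. -/
def φ (t : ℕ) : (⋀[S' p R a]^(t + 1) (Ω[S' p R a⁄Λ])) →ₗ[S' p R a] E (S' p R a) R Ω[R⁄Λ] :=
  exteriorPower.alternatingMapLinearEquiv (contract (S' p R a) R (KaehlerDifferential.D Λ R a)
    ((LinearMap.snd (S' p R a) _ _).comp (G p Λ R a))
    ((LinearMap.fst (S' p R a) _ _).comp (G p Λ R a)) t)

variable [Nontrivial R] [Fact p.Prime]

/-- The coefficient of `x^(p-1)`. -/
def coef : S' p R a →ₗ[R] R :=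
  have hm : (X ^ p - C a : R[X]).Monic := monic_X_pow_sub_C a (Fact.out : p.Prime).ne_zero
  (AdjoinRoot.powerBasis' hm).basis.coord ⟨p - 1, by
    rw [AdjoinRoot.powerBasis'_dim, natDegree_X_pow_sub_C]
    exact Nat.sub_lt (Fact.out : p.Prime).pos one_pos⟩

theorem coef_pow (i : ℕ) (hi : i < p) :
    coef p R a (AdjoinRoot.root _ ^ i) = if i = p - 1 then 1 else 0 := by
  have hm : (X ^ p - C a : R[X]).Monic := monic_X_pow_sub_C a (Fact.out : p.Prime).ne_zero
  have hi' : i < (AdjoinRoot.powerBasis' hm).dim := by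
    rwa [AdjoinRoot.powerBasis'_dim, natDegree_X_pow_sub_C]
  have h : AdjoinRoot.root _ ^ i = (AdjoinRoot.powerBasis' hm).basis ⟨i, hi'⟩ := by
    rw [PowerBasis.basis_eq_pow, AdjoinRoot.powerBasis'_gen]
  rw [h, coef, Module.Basis.coord_apply, Module.Basis.repr_self, Finsupp.single_apply]
  simp [Fin.ext_iff]

/-- The trace. -/
def Tr (t : ℕ) : (⋀[S' p R a]^(t + 1) (Ω[S' p R a⁄Λ])) →+ (⋀[R]^(t + 1) Ω[R⁄Λ]) :=
  (((DirectSum.component R ℕ (fun n : ℕ => ↥(⋀[R]^n Ω[R⁄Λ])) (t + 1)).comp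
    (DirectSum.decomposeLinearEquiv (fun n : ℕ => ⋀[R]^n Ω[R⁄Λ])).toLinearMap).comp
    ((TensorProduct.lid R _).toLinearMap.comp
      ((coef p R a).rTensor (ExteriorAlgebra R Ω[R⁄Λ])))).toAddMonoidHom.comp
    (φ p Λ R a t).toAddMonoidHom

theorem Tr_smul (t : ℕ) (r : R) (ω : ⋀[S' p R a]^(t + 1) (Ω[S' p R a⁄Λ])) :
    Tr p Λ R a t (algebraMap R (S' p R a) r • ω) = r • Tr p Λ R a t ω := by
  simp only [Tr, AddMonoidHom.comp_apply, LinearMap.toAddMonoidHom_coe, map_smul, algebraMap_smul,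
    LinearMap.map_smul_of_tower]

theorem Tr_snoc (t : ℕ) (η : Fin t → Ω[R⁄Λ]) (s : S' p R a) :
    Tr p Λ R a t (exteriorPower.ιMulti _ (t + 1)
      (Fin.snoc (fun j => KaehlerDifferential.map Λ Λ R (S' p R a) (η j))
        (s • KaehlerDifferential.D Λ _ (AdjoinRoot.root _)))) =
      coef p R a s • exteriorPower.ιMulti R (t + 1) (Fin.snoc η (KaehlerDifferential.D Λ R a)) := by
  simp only [Tr, φ, AddMonoidHom.comp_apply, LinearMap.toAddMonoidHom_coe,
    exteriorPower.alternatingMapLinearEquiv_apply_ιMulti]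
  rw [contract_snoc _ _ _ _ _ _ _ _ (fun i => by simp [G_map])]
  simp only [LinearMap.comp_apply, LinearMap.fst_apply, LinearMap.snd_apply, G_map, map_smul,
    G_root, Prod.smul_snd, smul_eq_mul, mul_one]
  rw [wedge_mk, TensorProduct.smul_tmul', smul_eq_mul, mul_one]
  simp only [LinearEquiv.coe_coe, LinearMap.rTensor_tmul, TensorProduct.lid_tmul, map_smul,
    DirectSum.decomposeLinearEquiv_apply]
  congr 1
  rw [show ExteriorAlgebra.ιMulti R (t + 1) (Fin.snoc η (KaehlerDifferential.D Λ R a)) =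
    ((exteriorPower.ιMulti R (t + 1) (Fin.snoc η (KaehlerDifferential.D Λ R a))) :
      ExteriorAlgebra R Ω[R⁄Λ]) from rfl, DirectSum.decompose_coe]
  exact DFinsupp.single_eq_same

theorem Tr_map (t : ℕ) (s : S' p R a) (η : Fin (t + 1) → Ω[R⁄Λ]) :
    Tr p Λ R a t (s • exteriorPower.ιMulti _ (t + 1)
      (fun j => KaehlerDifferential.map Λ Λ R (S' p R a) (η j))) = 0 := by
  simp only [Tr, φ, AddMonoidHom.comp_apply, LinearMap.toAddMonoidHom_coe, map_smul,
    exteriorPower.alternatingMapLinearEquiv_apply_ιMulti]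
  rw [contract_zero _ _ _ _ _ _ _ (fun i => by simp [G_map])]
  simp

end ExtTraceLib
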